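import Groth.Agent.DescentBase.QuasiSect.Lift
import Groth.Agent.EGA43Topo.QuasiSection

/-!
# Universally open surjective morphisms have quasi-sections after a finite covering
-/

set_option autoImplicit false
set_option linter.style.haveILetI false
set_option maxHeartbeats 1000000
universe u

open CategoryTheory CategoryTheory.Limits AlgebraicGeometry TopologicalSpace Topology
open Groth.FibreDim Groth.EGA43Topo

namespace Groth.DescentBase.QuasiSect

variable {X Y : Scheme.{u}}

lemma exists_closed_in_fibre (f : X ⟶ Y) [LocallyOfFiniteType f] [Surjective f] (y : Y) :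
    ∃ x : X, f.base x = y ∧ ∀ x', f.base x' = f.base x → x ⤳ x' → x' = x := by
  haveI : LocallyOfFiniteType (f.fiberToSpecResidueField y) :=
    inferInstanceAs (LocallyOfFiniteType (pullback.snd f (Y.fromSpecResidueField y)))
  haveI : JacobsonSpace ↥(f.fiber y) := LocallyOfFiniteType.jacobsonSpace (f.fiberToSpecResidueField y)
  obtain ⟨x₀, hx₀⟩ := Surjective.surj (f := f) y
  obtain ⟨c₀, -⟩ : x₀ ∈ Set.range (f.fiberι y).base := (f.range_fiberι y).ge hx₀
  obtain ⟨c, -, hc⟩ := nonempty_inter_closedPoints (Z := (Set.univ : Set ↥(f.fiber y)))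
    ⟨c₀, trivial⟩ isOpen_univ.isLocallyClosed
  refine ⟨(f.fiberι y).base c, apply_fiberι f y c, fun x' h1 h2 => ?_⟩
  obtain ⟨c', rfl⟩ : x' ∈ Set.range (f.fiberι y).base :=
    (f.range_fiberι y).ge (h1.trans (apply_fiberι f y c))
  exact congrArg _ ((mem_closedPoints_iff.1 hc).closure_eq.le
    (specializes_iff_mem_closure.1 ((f.fiberι y).isEmbedding.toIsInducing.specializes_iff.1 h2)))

lemma isUnivOpenAt_of_universallyOpen (f : X ⟶ Y) [UniversallyOpen f] (x : X) :
    EGA43.IsUnivOpenAt f x := fun Y' g x' _ U hU => by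
  obtain ⟨U', hU'U, hU', hx'⟩ := mem_nhds_iff.1 hU
  have : UniversallyOpen (pullback.snd f g) := inferInstance
  exact Filter.mem_of_superset
    (((pullback.snd f g).isOpenMap _ hU').mem_nhds ⟨x', hx', rfl⟩) (Set.image_mono hU'U)

/-- An algebra gives a lift when its spectrum maps to `X` over the base. -/
def LiftAlg {A : CommRingCat.{u}} (f : X ⟶ Spec A) (C : Type u) [CommRing C] [Algebra A C] : Prop :=
  ∃ m : Spec (CommRingCat.of C) ⟶ X, m ≫ f = Spec.map (CommRingCat.ofHom (algebraMap A C))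

variable {A : CommRingCat.{u}} [IsNoetherianRing A] [IsDomain A]

lemma exists_quasiFinite_lift (f : X ⟶ Spec A) [LocallyOfFiniteType f] [Surjective f]
    [UniversallyOpen f] (A₁ : Type u) [CommRing A₁] [IsDomain A₁] [Algebra A A₁] [Module.Finite A A₁]
    (p₁ : Ideal A₁) [hp₁ : p₁.IsPrime] :
    ∃ (C : Type u) (_ : CommRing C) (_ : IsDomain C) (_ : Algebra A₁ C) (_ : Algebra A C)
      (_ : IsScalarTower A A₁ C) (_ : Algebra.FiniteType A₁ C) (_ : FaithfulSMul A₁ C)
      (q : Ideal C) (_ : q.IsPrime),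
      q.comap (algebraMap A₁ C) = p₁ ∧ Algebra.QuasiFiniteAt A₁ q ∧ LiftAlg f C := by
  haveI : IsNoetherianRing (CommRingCat.of A₁) := IsNoetherianRing.of_finite A A₁
  let g : Spec (CommRingCat.of A₁) ⟶ Spec A := Spec.map (CommRingCat.ofHom (algebraMap A A₁))
  let f₁ := pullback.snd f g
  haveI : UniversallyOpen f₁ := inferInstanceAs (UniversallyOpen (pullback.snd f g))
  haveI : Surjective f₁ := inferInstanceAs (Surjective (pullback.snd f g))
  haveI : LocallyOfFiniteType f₁ := inferInstanceAs (LocallyOfFiniteType (pullback.snd f g))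
  let y₁ : Spec (CommRingCat.of A₁) := (⟨p₁, hp₁⟩ : PrimeSpectrum A₁)
  let η : Spec (CommRingCat.of A₁) := (⟨⊥, Ideal.isPrime_bot⟩ : PrimeSpectrum A₁)
  obtain ⟨x, hxy, hcl⟩ := exists_closed_in_fibre f₁ y₁
  obtain ⟨z, hfz, hzx, h0, hzd⟩ := exists_maximal_fibre_point f₁ x
  have hz := (isMax_asFiber_iff f₁ z).1 (Order.coheight_eq_zero.1 h0)
  have hη : η ⤳ f₁.base z := (PrimeSpectrum.le_iff_specializes η (f₁.base z)).1 bot_le
  obtain ⟨a, haz, hfa, hamax, hd⟩ :=
    exists_generization_of_isUnivOpenAt (isUnivOpenAt_of_universallyOpen f₁ z) hz hη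
  have hle : FlatMor.fibreDimAt f₁ x ≤ FlatMor.fibreDimAt f₁ a := by
    rw [← hzd, ← (fibreDimAt_eq_height_of_max f₁ hz).1]
    exact hd
  obtain ⟨T, i, _, _, ⟨t, ht⟩, _, _, _, hrange⟩ :=
    exists_quasiSection f₁ hcl (haz.trans hzx) (fun w hw => hamax w (hw.trans hfa)) hle
  rw [hfa] at hrange
  obtain ⟨V, hV, htV, -⟩ := exists_isAffineOpen_mem_and_subset (U := (⊤ : T.Opens)) (x := t) trivial
  haveI : Nonempty V.toScheme := ⟨⟨t, htV⟩⟩
  obtain ⟨φC, hφC⟩ := Spec.map_surjective (hV.fromSpec ≫ i ≫ f₁)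
  letI algC : Algebra A₁ Γ(T, V) := φC.hom.toAlgebra
  letI algA : Algebra A Γ(T, V) := (φC.hom.comp (algebraMap A A₁)).toAlgebra
  haveI : IsScalarTower A A₁ Γ(T, V) := IsScalarTower.of_algebraMap_eq fun _ => rfl
  haveI : LocallyOfFiniteType (Spec.map φC) := hφC ▸ inferInstance
  haveI : LocallyQuasiFinite (Spec.map φC) := hφC ▸ inferInstance
  haveI : Algebra.FiniteType A₁ Γ(T, V) :=
    (HasRingHomProperty.Spec_iff (P := @LocallyOfFiniteType)).1 ‹LocallyOfFiniteType (Spec.map φC)›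
  haveI : Algebra.QuasiFinite A₁ Γ(T, V) :=
    (HasRingHomProperty.Spec_iff (P := @LocallyQuasiFinite)).1 ‹LocallyQuasiFinite (Spec.map φC)›
  let q := hV.primeIdealOf ⟨t, htV⟩
  have hq : q.asIdeal.comap (algebraMap A₁ Γ(T, V)) = p₁ := by
    have h1 : (Spec.map φC).base q = y₁ := by
      rw [hφC]
      refine (congrArg (i ≫ f₁).base (hV.fromSpec_primeIdealOf ⟨t, htV⟩)).trans ?_
      show f₁.base (i.base t) = y₁
      rw [ht]
      exact hxy
    exact congrArg PrimeSpectrum.asIdeal h1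
  have hfaith : FaithfulSMul A₁ Γ(T, V) := (faithfulSMul_iff_algebraMap_injective _ _).2 (by
    obtain ⟨t₀, ht₀⟩ := hrange
    have hgT : (i ≫ f₁).base (genericPoint T) = η :=
      (((genericPoint_specializes t₀).map (i ≫ f₁).continuous).trans (specializes_of_eq ht₀)).antisymm
        ((PrimeSpectrum.le_iff_specializes _ _).1 bot_le) |>.eq
    have hgV : genericPoint T ∈ V := (genericPoint_specializes t).mem_open V.isOpen htV
    have h2 : (Spec.map φC).base (hV.primeIdealOf ⟨_, hgV⟩) = η := by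
      rw [hφC]
      exact (congrArg (i ≫ f₁).base (hV.fromSpec_primeIdealOf ⟨_, hgV⟩)).trans hgT
    refine (injective_iff_map_eq_zero _).2 fun b hb => ?_
    have : b ∈ (hV.primeIdealOf ⟨_, hgV⟩).asIdeal.comap (algebraMap A₁ Γ(T, V)) := by
      rw [Ideal.mem_comap, hb]; exact Ideal.zero_mem _
    exact (congrArg PrimeSpectrum.asIdeal h2).le this)
  refine ⟨Γ(T, V), inferInstance, inferInstance, algC, algA, inferInstance, inferInstance, hfaith,
    q.asIdeal, inferInstance, hq, inferInstance, hV.fromSpec ≫ i ≫ pullback.fst f g, ?_⟩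
  rw [Category.assoc, Category.assoc, pullback.condition, ← Category.assoc i, ← Category.assoc hV.fromSpec]
  refine (congrArg (· ≫ g) hφC.symm).trans ?_
  rw [← Spec.map_comp]
  rfl

/-- Locally on a Noetherian integral affine base, a universally open surjection has sections
locally on a finite surjective covering. -/
theorem exists_local_cover (f : X ⟶ Spec A) [LocallyOfFiniteType f] [Surjective f] [UniversallyOpen f]
    (p : Spec A) :
    ∃ (U : (Spec A).Opens) (W : Scheme.{u}) (w : W ⟶ Spec A), p ∈ U ∧ IsFinite w ∧ Surjective w ∧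
      ∀ b : W, w.base b ∈ U → ∃ (V : Scheme.{u}) (v : V ⟶ W), IsOpenImmersion v ∧
        b ∈ Set.range v.base ∧ ∃ m : V ⟶ X, m ≫ f = v ≫ w := by
  haveI : p.asIdeal.IsPrime := p.isPrime
  obtain ⟨a, B, _, _, ha, hfin, hinj, hcov⟩ := exists_finite_cover A (fun C [CommRing C] [Algebra A C] => LiftAlg f C)
    (fun C C' _ _ _ _ φ => by
      rintro ⟨m, hm⟩
      refine ⟨Spec.map (CommRingCat.ofHom φ.toRingHom) ≫ m, ?_⟩
      rw [Category.assoc, hm, ← Spec.map_comp, ← CommRingCat.ofHom_comp]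
      congr 2
      exact φ.comp_algebraMap)
    p.asIdeal (fun A₁ _ _ _ _ _ p₁ _ _ => exists_quasiFinite_lift f A₁ p₁)
  let w : Spec (CommRingCat.of B) ⟶ Spec A := Spec.map (CommRingCat.ofHom (algebraMap A B))
  have hfin' : IsFinite w := (IsFinite.SpecMap_iff _).2 (RingHom.finite_algebraMap.2 hfin)
  have hsurj : Surjective w := ⟨by
    haveI := hfin
    haveI : FaithfulSMul A B := (faithfulSMul_iff_algebraMap_injective A B).2 hinj
    exact fun q => by
      haveI : q.asIdeal.IsPrime := q.isPrime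
      obtain ⟨Q, -, hQ, hQc⟩ := Ideal.exists_ideal_over_prime_of_isIntegral (S := B) q.asIdeal ⊥ (by
        rw [← RingHom.ker_eq_comap_bot, (RingHom.injective_iff_ker_eq_bot _).1 hinj]; exact bot_le)
      exact ⟨⟨Q, hQ⟩, PrimeSpectrum.ext hQc⟩⟩
  refine ⟨PrimeSpectrum.basicOpen a, _, w, ha, hfin', hsurj, fun b hb => ?_⟩
  obtain ⟨g, hg, m, hm⟩ := hcov b.asIdeal b.isPrime hb
  refine ⟨_, Spec.map (CommRingCat.ofHom (algebraMap B (Localization.Away g))),
    IsOpenImmersion.of_isLocalization g, ?_, m, ?_⟩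
  · exact (PrimeSpectrum.localization_away_comap_range (Localization.Away g) g).ge hg
  · rw [hm, ← Spec.map_comp, ← CommRingCat.ofHom_comp, ← IsScalarTower.algebraMap_eq]

end Groth.DescentBase.QuasiSect
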