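import Groth.Agent.Hensel1.Std
import Groth.Agent.Hensel1.MinimalPrimesHens
import Groth.Agent.S0511
import Groth.Agent.VarietyBC.BranchPoints

/-!
# Finitely many primes of the integral closure over a prime of a Noetherian domain
-/

set_option autoImplicit false
universe u

open IsLocalRing

namespace Groth.DescentBase.QuasiSect

variable (A K : Type u) [CommRing A] [IsNoetherianRing A] [IsDomain A] [Field K] [Algebra A K]
  [IsFractionRing A K]

theorem finite_maximalSpectrum_integralClosure (R : Type u) [CommRing R] [IsNoetherianRing R]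
    [IsDomain R] [IsLocalRing R] (K : Type u) [Field K] [Algebra R K] [IsFractionRing R K] :
    Finite (MaximalSpectrum (integralClosure R K)) := by
  let S := Groth.Hensel1.Hens R (ResidueField R)
  haveI : Hensel.IsHenselization R S := Groth.Hensel1.isHenselization_hens R
  haveI : IsNoetherianRing S := (Groth.Agent.S0511.result R S).1 inferInstance
  haveI : Finite (minimalPrimes S) := (minimalPrimes.finite_of_isNoetherianRing S).to_subtype
  refine ENat.card_lt_top.1 ?_
  rw [← (Groth.VarietyBC.BranchPoints.branches_eq R K).1,
    ← Groth.Hensel1.card_minimalPrimes_henselization_eq_numBranches R S]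
  exact ENat.card_lt_top.2 inferInstance

/-- Finitely many primes of the integral closure lie over a given prime. -/
theorem finite_primes_over (p : Ideal A) [p.IsPrime] :
    {P : Ideal (integralClosure A K) | P.IsPrime ∧
      P.comap (algebraMap A (integralClosure A K)) = p}.Finite := by
  classical
  let R := Localization.AtPrime p
  letI : Algebra R K := (IsLocalization.lift (M := p.primeCompl) (g := algebraMap A K) fun s =>
    IsUnit.mk0 _ fun h => s.2 ((IsFractionRing.injective A K (h.trans (map_zero _).symm)) ▸ p.zero_mem)).toAlgebra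
  haveI : IsScalarTower A R K := IsScalarTower.of_algebraMap_eq fun a => (IsLocalization.lift_eq _ a).symm
  haveI : IsFractionRing R K := IsFractionRing.isFractionRing_of_isDomain_of_isLocalization p.primeCompl R K
  haveI : IsNoetherianRing R := IsLocalization.isNoetherianRing p.primeCompl R inferInstance
  haveI : IsDomain R := IsLocalization.isDomain_localization p.primeCompl_le_nonZeroDivisors
  haveI := finite_maximalSpectrum_integralClosure R K
  haveI : Algebra.IsIntegral R (integralClosure R K) :=
    ⟨fun x => (isIntegral_algHom_iff (integralClosure R K).val Subtype.val_injective).1 x.2⟩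
  let ι : integralClosure A K →+* integralClosure R K :=
    (integralClosure A K).val.toRingHom.codRestrict (integralClosure R K) fun x => x.2.tower_top
  have hι : ∀ x, ((ι x : integralClosure R K) : K) = (x : K) := fun _ => rfl
  let Φ : MaximalSpectrum (integralClosure R K) → Ideal (integralClosure A K) := fun M => M.asIdeal.comap ι
  refine (Set.finite_range Φ).subset ?_
  rintro P ⟨hP, hPp⟩
  have hnot : ∀ s : A, s ∉ p → algebraMap A (integralClosure A K) s ∉ P := fun s hs h =>
    hs (hPp ▸ Ideal.mem_comap.2 h)
  have hp1 : (1 : A) ∉ p := fun h => (‹p.IsPrime›).ne_top ((Ideal.eq_top_iff_one p).2 h)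
  let I : Ideal (integralClosure R K) :=
    { carrier := {x | ∃ s : A, s ∉ p ∧ ∃ a ∈ P, algebraMap A K s * (x : K) = (a : K)}
      zero_mem' := ⟨1, hp1, 0, P.zero_mem, by simp⟩
      add_mem' := by
        rintro x y ⟨s, hs, a, ha, hxa⟩ ⟨t, ht, b, hb, hyb⟩
        refine ⟨s * t, fun h => ((‹p.IsPrime›).mem_or_mem h).elim hs ht,
          algebraMap A _ t * a + algebraMap A _ s * b, P.add_mem (P.mul_mem_left _ ha) (P.mul_mem_left _ hb), ?_⟩
        show algebraMap A K (s * t) * ((x : K) + y) = algebraMap A K t * a + algebraMap A K s * b
        rw [← hxa, ← hyb, map_mul]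
        ring
      smul_mem' := by
        rintro c x ⟨s, hs, a, ha, hxa⟩
        obtain ⟨m, hm⟩ := IsIntegral.exists_multiple_integral_of_isLocalization p.primeCompl (c : K) c.2
        refine ⟨(m : A) * s, fun h => ((‹p.IsPrime›).mem_or_mem h).elim m.2 hs,
          ⟨_, hm⟩ * a, P.mul_mem_left _ ha, ?_⟩
        show algebraMap A K (m * s) * ((c : K) * x) = (m • (c : K)) * a
        rw [← hxa, Submonoid.smul_def, Algebra.smul_def, map_mul]
        ring }
  have hI : I ≠ ⊤ := fun h => by
    obtain ⟨s, hs, a, ha, hsa⟩ : (1 : integralClosure R K) ∈ I := h ▸ trivial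
    refine hnot s hs ?_
    have : algebraMap A (integralClosure A K) s = a := Subtype.ext (by simpa using hsa)
    rwa [this]
  obtain ⟨M, hM, hIM⟩ := Ideal.exists_le_maximal I hI
  refine ⟨⟨M, hM⟩, ?_⟩
  ext x
  constructor
  · intro hx
    by_contra hxP
    have hMmax : (M.comap (algebraMap R (integralClosure R K))).IsMaximal :=
      Ideal.isMaximal_comap_of_isIntegral_of_isMaximal M
    have hMeq : M.comap (algebraMap R (integralClosure R K)) = maximalIdeal R :=
      IsLocalRing.eq_maximalIdeal hMmax
    haveI : Algebra.IsIntegral A (integralClosure A K) :=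
      ⟨fun x => (isIntegral_algHom_iff (integralClosure A K).val Subtype.val_injective).1 x.2⟩
    have hPmax : ∀ Q : Ideal (integralClosure A K), Q.IsPrime → P ≤ Q →
        Q.comap (algebraMap A (integralClosure A K)) = p → Q ≤ P := fun Q hQ hle hQp => by
      rcases lt_or_eq_of_le hle with hlt | heq
      · haveI := hP
        exact absurd (hPp.trans hQp.symm) (ne_of_lt (Ideal.IsIntegral.comap_lt_comap hlt))
      · exact heq ▸ le_rfl
    refine hxP (hPmax (M.comap ι) inferInstance (fun a ha => hIM ⟨1, hp1, a, ha, by simp [hι]⟩) ?_ hx)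
    ext s
    rw [Ideal.mem_comap, Ideal.mem_comap]
    have e : ι (algebraMap A (integralClosure A K) s) =
        algebraMap R (integralClosure R K) (algebraMap A R s) :=
      Subtype.ext (IsScalarTower.algebraMap_apply A R K s)
    rw [e, ← Ideal.mem_comap (f := algebraMap R (integralClosure R K)), hMeq,
      IsLocalization.AtPrime.to_map_mem_maximal_iff R p s]
  · exact fun ha => hIM ⟨1, hp1, x, ha, by simp [hι]⟩

end Groth.DescentBase.QuasiSect
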