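import Groth.Agent.DescentBase.QuasiSect.Branches
import Mathlib.RingTheory.ZariskisMainTheorem
import Mathlib.FieldTheory.IsAlgClosed.AlgebraicClosure
import Mathlib.FieldTheory.Normal.Basic

/-!
# Quasi-sections after a finite covering, algebraic form

If over every finite domain extension and every prime of it there is a finite type algebra with
property `Q`, quasi-finite at a prime above the given one, then locally on the base there is a
finite extension covered by basic opens with property `Q`.
-/

set_option autoImplicit false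
set_option linter.style.haveILetI false
set_option synthInstance.maxHeartbeats 200000
set_option maxHeartbeats 1000000
universe u

open Polynomial

namespace Groth.DescentBase.QuasiSect

variable (A : Type u) [CommRing A]

/-- Integral elements of an algebraic closure: a conjugate avoids any prime with the same trace. -/
theorem exists_conj_notMem [IsDomain A] (Ω : Type u) [Field Ω] [Algebra A Ω]
    (K : Type u) [Field K] [Algebra K Ω] [Algebra A K] [IsScalarTower A K Ω] [Normal K Ω] [IsAlgClosed Ω]
    (q q₀ : Ideal (integralClosure A Ω)) [q.IsPrime] [q₀.IsPrime]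
    (hsame : ∀ c : integralClosure A Ω, (c : Ω) ∈ Set.range (algebraMap K Ω) → c ∈ q → c ∈ q₀)
    (g : integralClosure A Ω) (hg : g ∉ q₀) :
    ∃ σ : Ω ≃ₐ[K] Ω, (⟨σ g, g.2.map (σ.toAlgHom.restrictScalars A)⟩ : integralClosure A Ω) ∉ q := by
  classical
  by_contra hall
  push Not at hall
  have hint : IsIntegral K (g : Ω) := g.2.tower_top
  let m := (minpoly K (g : Ω)).map (algebraMap K Ω)
  have hsplit : m.Splits := IsAlgClosed.splits m
  have hmonic : m.Monic := (minpoly.monic hint).map _
  have hroot : ∀ r ∈ m.roots, ∃ h : IsIntegral A r, (⟨r, h⟩ : integralClosure A Ω) ∈ q := by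
    intro r hr
    rw [Polynomial.mem_roots hmonic.ne_zero, IsRoot.def, eval_map_algebraMap] at hr
    obtain ⟨σ, rfl⟩ := minpoly.exists_algEquiv_of_root' hint.isAlgebraic hr
    exact ⟨_, hall σ⟩
  let l : List (integralClosure A Ω) := m.roots.toList.attach.map fun r =>
    ⟨r.1, (hroot r.1 (Multiset.mem_toList.1 r.2)).choose⟩
  have hlq : ∀ x ∈ l, x ∈ q := fun x hx => by
    obtain ⟨r, -, rfl⟩ := List.mem_map.1 hx
    exact (hroot r.1 (Multiset.mem_toList.1 r.2)).choose_spec
  let P : (integralClosure A Ω)[X] := (l.map fun x => X - C x).prod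
  have hPmap : P.map (integralClosure A Ω).val.toRingHom = m := by
    rw [hsplit.eq_prod_roots_of_monic hmonic, Polynomial.map_list_prod, ← Multiset.coe_toList m.roots,
      Multiset.map_coe, Multiset.prod_coe, List.map_map]
    refine congrArg List.prod ?_
    simp only [l, List.map_map]
    conv_rhs => rw [← List.attach_map_subtype_val m.roots.toList, List.map_map]
    refine List.map_congr_left fun r _ => ?_
    simp
  have hPq : P.map (Ideal.Quotient.mk q) = X ^ l.length := by
    rw [Polynomial.map_list_prod, List.map_map, ← List.length_map (f := (fun p => p.map (Ideal.Quotient.mk q)) ∘ fun x => X - C x)]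
    refine List.prod_eq_pow_card _ _ fun p hp => ?_
    obtain ⟨x, hx, rfl⟩ := List.mem_map.1 hp
    simp [Ideal.Quotient.eq_zero_iff_mem.2 (hlq x hx)]
  have hPmonic : P.Monic := Polynomial.monic_of_injective Subtype.val_injective (hPmap ▸ hmonic)
  have hPq₀ : P.map (Ideal.Quotient.mk q₀) = X ^ l.length := by
    ext i
    rw [coeff_map, coeff_X_pow]
    by_cases hi : i = l.length
    · subst hi
      have hdeg : P.natDegree = l.length := by
        rw [← natDegree_map_eq_of_injective (f := (integralClosure A Ω).val.toRingHom) Subtype.val_injective,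
          hPmap]
        rw [hsplit.natDegree_eq_card_roots]
        simp [l]
      rw [if_pos rfl, ← hdeg, coeff_natDegree, hPmonic.leadingCoeff, map_one]
    · rw [if_neg hi, Ideal.Quotient.eq_zero_iff_mem]
      refine hsame _ ⟨(minpoly K (g : Ω)).coeff i, ?_⟩ ?_
      · rw [← coeff_map]
        show m.coeff i = _
        rw [← hPmap, coeff_map]
        rfl
      · rw [← Ideal.Quotient.eq_zero_iff_mem, ← coeff_map, hPq, coeff_X_pow, if_neg hi]
  have heval : P.eval g = 0 := by
    apply Subtype.val_injective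
    show (integralClosure A Ω).val.toRingHom (P.eval g) = _
    rw [← eval₂_at_apply, ← eval_map, hPmap]
    show m.eval (g : Ω) = _
    rw [eval_map_algebraMap, minpoly.aeval]
    rfl
  have := congrArg (Ideal.Quotient.mk q₀) heval
  rw [map_zero, ← eval₂_at_apply, ← eval_map, hPq₀, eval_pow, eval_X] at this
  exact hg (Ideal.Quotient.eq_zero_iff_mem.1 (eq_zero_of_pow_eq_zero this))

variable (Q : ∀ (C : Type u) [CommRing C] [Algebra A C], Prop)

/-- A good element: `Q` holds for a finite type algebra mapping into `A'[1/g]`. -/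
def IsGoodElt (Ω : Type u) [Field Ω] [Algebra A Ω] (g : Ω) : Prop :=
  g ≠ 0 ∧ ∃ (C : Type u) (_ : CommRing C) (_ : Algebra A C) (_ : Algebra.FiniteType A C), Q C ∧
    ∃ φ : C →ₐ[A] Ω, ∀ c : C, ∃ m : ℕ, IsIntegral A (g ^ m * φ c)

variable [IsNoetherianRing A] [IsDomain A]

/-- Every prime of the integral closure in an algebraic closure over a given one avoids some good element. -/
theorem exists_good_notMem (p : Ideal A) [p.IsPrime]
    (hT : ∀ (A₁ : Type u) [CommRing A₁] [IsDomain A₁] [Algebra A A₁] [Module.Finite A A₁]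
      [FaithfulSMul A A₁] (p₁ : Ideal A₁) [p₁.IsPrime], p₁.comap (algebraMap A A₁) = p →
      ∃ (C : Type u) (_ : CommRing C) (_ : IsDomain C) (_ : Algebra A₁ C) (_ : Algebra A C)
        (_ : IsScalarTower A A₁ C) (_ : Algebra.FiniteType A₁ C) (_ : FaithfulSMul A₁ C)
        (q : Ideal C) (_ : q.IsPrime),
        q.comap (algebraMap A₁ C) = p₁ ∧ Algebra.QuasiFiniteAt A₁ q ∧ Q C)
    (q : Ideal (integralClosure A (AlgebraicClosure (FractionRing A)))) [q.IsPrime]
    (hqp : q.comap (algebraMap A (integralClosure A (AlgebraicClosure (FractionRing A)))) = p) :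
    ∃ g : integralClosure A (AlgebraicClosure (FractionRing A)), g ∉ q ∧
      IsGoodElt A Q (AlgebraicClosure (FractionRing A)) g := by
  classical
  let K := FractionRing A
  let Ω := AlgebraicClosure K
  let ι : integralClosure A K →+* integralClosure A Ω :=
    ((algebraMap K Ω).comp (integralClosure A K).val.toRingHom).codRestrict (integralClosure A Ω)
      fun x => x.2.map (IsScalarTower.toAlgHom A K Ω)
  have hι : ∀ a, ι (algebraMap A _ a) = algebraMap A (integralClosure A Ω) a := fun a =>
    Subtype.ext (IsScalarTower.algebraMap_apply A K Ω a).symm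
  let P := q.comap ι
  have hPp : P.comap (algebraMap A (integralClosure A K)) = p := by
    rw [← hqp]
    ext a
    simp only [P, Ideal.mem_comap, hι]
    rfl
  -- a finite subextension separating `P` from the other primes over `p`
  have hfin := finite_primes_over A K p
  have hd : ∀ P' : Ideal (integralClosure A K), ∃ d : integralClosure A K, (d ∈ P' ↔ d ∈ P) → P' = P := by
    intro P'
    by_cases h : P' = P
    · exact ⟨0, fun _ => h⟩
    · obtain ⟨d, hd⟩ := not_forall.1 (fun hh => h (SetLike.ext hh))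
      exact ⟨d, fun h' => absurd h' hd⟩
  choose d hd using hd
  let A₁ : Subalgebra A (integralClosure A K) := Algebra.adjoin A (hfin.toFinset.image d : Set (integralClosure A K))
  haveI : Module.Finite A A₁ :=
    Algebra.finite_adjoin_of_finite_of_isIntegral (Finset.finite_toSet _) fun x _ =>
      (isIntegral_algHom_iff (integralClosure A K).val Subtype.val_injective).1 x.2
  haveI : FaithfulSMul A A₁ := (faithfulSMul_iff_algebraMap_injective A A₁).2 fun a b h =>
    IsFractionRing.injective A K (congrArg (fun z : A₁ => ((z : integralClosure A K) : K)) h)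
  let p₁ : Ideal A₁ := P.comap A₁.val.toRingHom
  obtain ⟨C, _, _, _, _, _, _, _, q₁, _, hq₁, hqf, hQ⟩ := hT A₁ p₁ (by
    rw [← hPp]
    rfl)
  -- embed `C` in the algebraic closure
  have hθv : ∀ b : A₁, algebraMap A₁ Ω b = algebraMap K Ω ((b : integralClosure A K) : K) := fun b => rfl
  haveI : IsScalarTower A A₁ Ω := IsScalarTower.of_algebraMap_eq (R := A) (S := A₁) (A := Ω) fun a => by
    rw [hθv]
    exact IsScalarTower.algebraMap_apply A K Ω a
  have hθ : Function.Injective (algebraMap A₁ Ω) := fun a b h => by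
    rw [hθv, hθv] at h
    exact Subtype.ext (Subtype.ext ((algebraMap K Ω).injective h))
  haveI : FaithfulSMul A₁ Ω := (faithfulSMul_iff_algebraMap_injective A₁ Ω).2 hθ
  have hinjC : Function.Injective (algebraMap A₁ C) := FaithfulSMul.algebraMap_injective A₁ C
  haveI := hqf
  obtain ⟨r, hr, hint⟩ := Algebra.zariskisMainProperty_iff'.1
    (Algebra.ZariskisMainProperty.of_finiteType (R := A₁) q₁)
  have hr0 : r ≠ 0 := fun h => hr (h ▸ q₁.zero_mem)
  have hri : IsIntegral A₁ r := by
    obtain ⟨m, hm⟩ := hint r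
    exact IsIntegral.of_pow (n := m + 1) (by omega) (by rwa [pow_succ])
  have halg : ∀ c : C, IsAlgebraic A₁ c := fun c => by
    obtain ⟨m, hm⟩ := hint c
    exact IsAlgebraic.of_mul (mem_nonZeroDivisors_of_ne_zero (pow_ne_zero m hr0)) (hri.pow m).isAlgebraic hm.isAlgebraic
  haveI : Algebra.IsAlgebraic A₁ C := ⟨halg⟩
  let φ : C →ₐ[A₁] Ω := IsAlgClosed.lift
  have hφ : Function.Injective φ := by
    refine (injective_iff_map_eq_zero _).2 fun c hc => by_contra fun hc0 => ?_
    obtain ⟨b, hb0, z, hz⟩ := (halg c).exists_nonzero_dvd (mem_nonZeroDivisors_of_ne_zero hc0)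
    refine hb0 (hθ ?_)
    show algebraMap A₁ Ω b = _
    rw [← φ.commutes, hz, map_mul, hc, zero_mul, map_zero]
  let C₀ := integralClosure A₁ C
  have htrans : ∀ x : Ω, IsIntegral A₁ x → IsIntegral A x := fun x hx => isIntegral_trans x hx
  let ψ : C₀ →+* integralClosure A Ω := (φ.toRingHom.comp C₀.val.toRingHom).codRestrict (integralClosure A Ω)
    fun x => htrans _ (x.2.map φ)
  have hψ : Function.Injective ψ := fun a b h =>
    Subtype.ext (hφ (congrArg (fun z : integralClosure A Ω => (z : Ω)) h))
  have hψint : ψ.IsIntegral := RingHom.IsIntegral.tower_top (algebraMap A C₀) ψ (by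
    intro x
    show (ψ.comp (algebraMap A C₀)).IsIntegralElem x
    rw [show ψ.comp (algebraMap A C₀) = algebraMap A (integralClosure A Ω) from RingHom.ext fun a =>
      Subtype.ext (show φ (algebraMap A C a) = algebraMap A Ω a by
        rw [IsScalarTower.algebraMap_apply A A₁ C, φ.commutes, ← IsScalarTower.algebraMap_apply])]
    exact (isIntegral_algHom_iff (integralClosure A Ω).val Subtype.val_injective).1 x.2)
  letI : Algebra C₀ (integralClosure A Ω) := ψ.toAlgebra
  haveI : Algebra.IsIntegral C₀ (integralClosure A Ω) := ⟨hψint⟩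
  obtain ⟨q₀, hq₀, hq₀c⟩ := Ideal.exists_ideal_over_prime_of_isIntegral_of_isDomain
    (S := integralClosure A Ω) (q₁.comap C₀.val.toRingHom) (by
      rw [RingHom.algebraMap_toAlgebra ψ, (RingHom.injective_iff_ker_eq_bot _).1 hψ]; exact bot_le)
  have hq₀P : q₀.comap ι = P := by
    have hmem : ∀ b : A₁, ι (b : integralClosure A K) = ψ (algebraMap A₁ C₀ b) := fun b =>
      Subtype.ext (φ.commutes b).symm
    have h1 : ∀ b : A₁, (b : integralClosure A K) ∈ q₀.comap ι ↔ (b : integralClosure A K) ∈ P := fun b => by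
      have h2 : algebraMap A₁ C₀ b ∈ q₀.comap ψ ↔ algebraMap A₁ C₀ b ∈ q₁.comap C₀.val.toRingHom := by
        rw [← hq₀c]; rfl
      rw [Ideal.mem_comap, hmem, ← Ideal.mem_comap, h2]
      exact iff_of_eq (congrArg (fun I : Ideal A₁ => b ∈ I) hq₁)
    have hover : (q₀.comap ι).comap (algebraMap A (integralClosure A K)) = p := by
      rw [← hPp]
      ext a
      exact h1 (algebraMap A A₁ a)
    refine hd _ (h1 ⟨_, Algebra.subset_adjoin (Finset.mem_coe.2 (Finset.mem_image_of_mem d ?_))⟩)
    rw [Set.Finite.mem_toFinset]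
    exact ⟨Ideal.IsPrime.comap ι, hover⟩
  obtain ⟨σ, hσ⟩ := exists_conj_notMem A Ω K q q₀ (fun c ⟨k, hk⟩ hc => by
    have hki : IsIntegral A k :=
      (isIntegral_algHom_iff (IsScalarTower.toAlgHom A K Ω) (algebraMap K Ω).injective).1 (by
        show IsIntegral A (algebraMap K Ω k)
        rw [hk]
        exact c.2)
    have he : ι ⟨k, hki⟩ = c := Subtype.ext hk
    rw [← he] at hc ⊢
    exact hq₀P.ge hc) (ψ ⟨r, hri⟩) (fun h => hr (show (⟨r, hri⟩ : C₀) ∈ q₁.comap C₀.val.toRingHom from
      hq₀c ▸ h))
  refine ⟨_, hσ, ?_, C, inferInstance, inferInstance,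
    Algebra.FiniteType.trans (inferInstance : Algebra.FiniteType A A₁) ‹Algebra.FiniteType A₁ C›, hQ,
    (σ.toAlgHom.restrictScalars A).comp (φ.restrictScalars A), fun c => ?_⟩
  · show σ (φ r) ≠ 0
    simp only [ne_eq, EmbeddingLike.map_eq_zero_iff]
    exact fun h => hr0 (hφ (h.trans (map_zero φ).symm))
  · obtain ⟨m, hm⟩ := hint c
    refine ⟨m, ?_⟩
    show IsIntegral A (σ (φ r) ^ m * σ (φ c))
    rw [← map_pow, ← map_mul, ← map_pow, ← map_mul]
    exact (htrans _ (hm.map φ)).map (σ.toAlgHom.restrictScalars A)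

/-- Locally on the base, a finite extension is covered by basic opens with property `Q`. -/
theorem exists_finite_cover (hQ : ∀ (C C' : Type u) [CommRing C] [Algebra A C] [CommRing C'] [Algebra A C'],
      (C →ₐ[A] C') → Q C → Q C')
    (p : Ideal A) [p.IsPrime]
    (hT : ∀ (A₁ : Type u) [CommRing A₁] [IsDomain A₁] [Algebra A A₁] [Module.Finite A A₁]
      [FaithfulSMul A A₁] (p₁ : Ideal A₁) [p₁.IsPrime], p₁.comap (algebraMap A A₁) = p →
      ∃ (C : Type u) (_ : CommRing C) (_ : IsDomain C) (_ : Algebra A₁ C) (_ : Algebra A C)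
        (_ : IsScalarTower A A₁ C) (_ : Algebra.FiniteType A₁ C) (_ : FaithfulSMul A₁ C)
        (q : Ideal C) (_ : q.IsPrime),
        q.comap (algebraMap A₁ C) = p₁ ∧ Algebra.QuasiFiniteAt A₁ q ∧ Q C) :
    ∃ (a : A) (B : Type u) (_ : CommRing B) (_ : Algebra A B), a ∉ p ∧ Module.Finite A B ∧
      Function.Injective (algebraMap A B) ∧
      ∀ b : Ideal B, b.IsPrime → algebraMap A B a ∉ b → ∃ g : B, g ∉ b ∧ Q (Localization.Away g) := by
  classical
  let Ω := AlgebraicClosure (FractionRing A)
  let A' := integralClosure A Ω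
  haveI : Algebra.IsIntegral A A' :=
    ⟨fun x => (isIntegral_algHom_iff A'.val Subtype.val_injective).1 x.2⟩
  let G : Set A' := {g | IsGoodElt A Q Ω g}
  obtain ⟨a, haG, hap⟩ : ∃ a, algebraMap A A' a ∈ Ideal.span G ∧ a ∉ p := by
    by_contra h
    push Not at h
    obtain ⟨q, hle, hq, hqp⟩ := Ideal.exists_ideal_over_prime_of_isIntegral p (Ideal.span G) h
    obtain ⟨g, hg, hG⟩ := exists_good_notMem A Q p hT q hqp
    exact hg (hle (Ideal.subset_span hG))
  obtain ⟨T, hTG, haT⟩ := Submodule.mem_span_finite_of_mem_span haG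
  obtain ⟨co, -, hco⟩ := Submodule.mem_span_finset.1 haT
  have hgood : ∀ t : T, IsGoodElt A Q Ω (t.1 : Ω) := fun t => hTG t.2
  choose hne C hC₁ hC₂ hC₃ hQC φ hφ using hgood
  choose s hs using fun t => (hC₃ t).out
  choose m hm using hφ
  let gens : Set Ω := Set.range (fun t : T => (t.1 : Ω)) ∪ Set.range (fun t : T => (co t.1 : Ω)) ∪
    Set.range (fun x : Σ t : T, (s t : Set (C t)) => (x.1.1 : Ω) ^ m x.1 x.2.1 * φ x.1 x.2.1)
  let B := Algebra.adjoin A gens
  have hgens : ∀ x ∈ gens, IsIntegral A x := by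
    rintro x ((⟨t, rfl⟩ | ⟨t, rfl⟩) | ⟨⟨t, c⟩, rfl⟩)
    · exact t.1.2
    · exact (co t.1).2
    · exact hm t c.1
  have hfinite : gens.Finite := by
    haveI : ∀ t, Finite (s t : Set (C t)) := fun t => (s t).finite_toSet.to_subtype
    exact ((Set.finite_range _).union (Set.finite_range _)).union (Set.finite_range _)
  refine ⟨a, B, inferInstance, inferInstance, hap,
    Algebra.finite_adjoin_of_finite_of_isIntegral hfinite hgens, fun x y h =>
      IsFractionRing.injective A (FractionRing A) ((algebraMap (FractionRing A) Ω).injective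
        (congrArg (fun z : B => (z : Ω)) h)), fun b hb hab => ?_⟩
  let gB : T → B := fun t => ⟨t.1, Algebra.subset_adjoin (Or.inl (Or.inl ⟨t, rfl⟩))⟩
  obtain ⟨t, ht⟩ : ∃ t, gB t ∉ b := by
    by_contra h
    push Not at h
    refine hab ?_
    have e : algebraMap A B a = ∑ t : T, ⟨co t.1, Algebra.subset_adjoin (Or.inl (Or.inr ⟨t, rfl⟩))⟩ * gB t := by
      apply Subtype.ext
      rw [AddSubmonoidClass.coe_finset_sum]
      show algebraMap A Ω a = ∑ t : T, (co t.1 : Ω) * (t.1 : Ω)
      rw [← Finset.sum_coe_sort T] at hco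
      rw [show algebraMap A Ω a = ((algebraMap A A' a : A') : Ω) from rfl, ← hco, AddSubmonoidClass.coe_finset_sum]
      rfl
    rw [e]
    exact b.sum_mem fun t _ => b.mul_mem_left _ (h t)
  refine ⟨gB t, ht, hQ (C t) _ ?_ (hQC t)⟩
  let L := Localization.Away (gB t)
  have hu : IsUnit (B.val.toRingHom (gB t)) := IsUnit.mk0 _ (hne t)
  let j₀ : L →+* Ω := IsLocalization.Away.lift (gB t) hu
  have hj₀ : ∀ x : B, j₀ (algebraMap B L x) = x := fun x => IsLocalization.Away.lift_eq _ hu x
  let j : L →ₐ[A] Ω :=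
    AlgHom.mk' j₀ fun r z => by
      rw [Algebra.smul_def, Algebra.smul_def, map_mul, IsScalarTower.algebraMap_apply A B L, hj₀]
      rfl
  have hj : Function.Injective j := by
    refine (injective_iff_map_eq_zero _).2 fun z hz => ?_
    obtain ⟨⟨x, y⟩, hxy⟩ := IsLocalization.surj (Submonoid.powers (gB t)) z
    have h0 : j₀ (algebraMap B L x) = 0 := by
      rw [← hxy, map_mul, show j₀ z = 0 from hz, zero_mul]
    rw [hj₀] at h0
    have hx0 : x = 0 := Subtype.ext h0
    rw [hx0, map_zero] at hxy
    exact (IsUnit.mul_left_eq_zero (IsLocalization.map_units L y)).1 hxy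
  have hrange : ∀ c, φ t c ∈ j.range := fun c => by
    have hle : (s t : Set (C t)) ⊆ j.range.comap (φ t) := fun c hc => by
      let y : B := ⟨_, Algebra.subset_adjoin (Or.inr ⟨⟨t, ⟨c, hc⟩⟩, rfl⟩)⟩
      obtain ⟨w, hw⟩ := (IsLocalization.Away.algebraMap_isUnit (S := L) (gB t)).pow (m t c) |>.exists_left_inv
      refine ⟨w * algebraMap B L y, ?_⟩
      show j (w * algebraMap B L y) = φ t c
      rw [map_mul, show j (algebraMap B L y) = (y : Ω) from hj₀ y]
      show j w * ((t.1 : Ω) ^ m t c * φ t c) = φ t c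
      have := congrArg j hw
      rw [map_mul, map_pow, map_one, show j (algebraMap B L (gB t)) = (t.1 : Ω) from hj₀ _] at this
      rw [← mul_assoc, this, one_mul]
    exact Algebra.adjoin_le hle ((hs t).ge trivial)
  exact ((AlgEquiv.ofInjective j hj).symm.toAlgHom).comp ((φ t).codRestrict j.range hrange)

end Groth.DescentBase.QuasiSect
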